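import Groth.Agent.EtEff48.Desc.Integral
import Groth.Agent.BigSiteLib.FppfDesc.Descent

/-!
# The sheafified Čech complexes of a flat covering on the big fppf site
-/

set_option autoImplicit false
set_option backward.isDefEq.respectTransparency false
set_option backward.isDefEq.respectTransparency.types false

universe u

open CategoryTheory CategoryTheory.Limits AlgebraicGeometry Opposite Simplicial

namespace Groth.Agent.EtEff48.FppfCech

open BigSiteLib.FppfDesc (AbFp)

variable {X Y : Scheme.{u}}

/-- The product with `V`, as base change followed by composition. -/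
noncomputable abbrev mulObj (T : Over Y) : Over Y ⥤ Over Y := Over.pullback T.hom ⋙ Over.map T.hom

/-- The product with a morphism. -/
noncomputable def mulMap {T' T : Over Y} (k : T' ⟶ T) : mulObj T' ⟶ mulObj T where
  app V := Over.homMk
    (pullback.lift (pullback.fst V.hom T'.hom) (pullback.snd V.hom T'.hom ≫ k.left)
      (pullback.condition.trans ((congrArg (_ ≫ ·) (Over.w k).symm).trans (Category.assoc _ _ _).symm)))
    (by
      show pullback.lift _ _ _ ≫ pullback.snd V.hom T.hom ≫ T.hom = pullback.snd V.hom T'.hom ≫ T'.hom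
      rw [pullback.lift_snd_assoc, Category.assoc, Over.w])
  naturality V V' a := by
    refine Over.OverMorphism.ext (pullback.hom_ext ?_ ?_)
    · simp [mulObj]
    · simp [mulObj]

theorem mulMap_left_fst {T' T : Over Y} (k : T' ⟶ T) (V : Over Y) :
    ((mulMap k).app V).left ≫ pullback.fst V.hom T.hom = pullback.fst V.hom T'.hom :=
  pullback.lift_fst _ _ _

theorem mulMap_left_snd {T' T : Over Y} (k : T' ⟶ T) (V : Over Y) :
    ((mulMap k).app V).left ≫ pullback.snd V.hom T.hom = pullback.snd V.hom T'.hom ≫ k.left :=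
  pullback.lift_snd _ _ _

theorem mulMap_id (T : Over Y) : mulMap (𝟙 T) = 𝟙 _ :=
  NatTrans.ext (funext fun V => Over.OverMorphism.ext (pullback.hom_ext
    ((mulMap_left_fst _ V).trans (Category.id_comp _).symm)
    ((mulMap_left_snd _ V).trans ((Category.comp_id _).trans (Category.id_comp _).symm))))

theorem mulMap_comp {T'' T' T : Over Y} (k : T'' ⟶ T') (l : T' ⟶ T) : mulMap (k ≫ l) = mulMap k ≫ mulMap l :=
  NatTrans.ext (funext fun V => Over.OverMorphism.ext (pullback.hom_ext
    ((mulMap_left_fst _ V).trans (((Category.assoc _ _ _).trans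
      ((congrArg (_ ≫ ·) (mulMap_left_fst l V)).trans (mulMap_left_fst k V))).symm))
    ((mulMap_left_snd _ V).trans (((Category.assoc _ _ _).trans
      ((congrArg (_ ≫ ·) (mulMap_left_snd l V)).trans ((Category.assoc _ _ _).symm.trans
        ((congrArg (· ≫ l.left) (mulMap_left_snd k V)).trans (Category.assoc _ _ _))))).symm))))

/-- The product, as a functor of the factor. -/
noncomputable def mul : Over Y ⥤ Over Y ⥤ Over Y where
  obj := mulObj
  map := mulMap
  map_id := mulMap_id
  map_comp := mulMap_comp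

/-- Direct image of the inverse image along an object. -/
noncomputable abbrev hObj (T : Over Y) : AbFp Y ⥤ AbFp Y :=
  BigSite.pullBig Scheme.fppfPrecoverage T.hom AddCommGrpCat.{u + 1} ⋙
    BigSite.pushBig Scheme.fppfPrecoverage T.hom AddCommGrpCat.{u + 1}

/-- The restriction between direct images. -/
noncomputable def hMap {T' T : Over Y} (k : T' ⟶ T) : hObj T ⟶ hObj T' where
  app G := ObjectProperty.homMk
    { app := fun V => G.obj.map ((mulMap k).app V.unop).op
      naturality := fun V V' a => by
        show G.obj.map ((mulObj T).map a.unop).op ≫ G.obj.map ((mulMap k).app V'.unop).op =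
          G.obj.map ((mulMap k).app V.unop).op ≫ G.obj.map ((mulObj T').map a.unop).op
        rw [← G.obj.map_comp, ← G.obj.map_comp, ← op_comp, ← op_comp, (mulMap k).naturality] }
  naturality G G' φ := ObjectProperty.hom_ext _ (NatTrans.ext (funext fun V =>
    (φ.hom.naturality ((mulMap k).app V.unop).op).symm))

/-- `T ↦ (u_T)_* (u_T)⁻¹`. -/
noncomputable def hFun : (Over Y)ᵒᵖ ⥤ AbFp Y ⥤ AbFp Y where
  obj T := hObj T.unop
  map k := hMap k.unop
  map_id T := NatTrans.ext (funext fun G => ObjectProperty.hom_ext _ (NatTrans.ext (funext fun V => by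
    show G.obj.map ((mulMap (𝟙 T.unop)).app V.unop).op = 𝟙 _
    rw [mulMap_id]
    exact G.obj.map_id _)))
  map_comp k l := NatTrans.ext (funext fun G => ObjectProperty.hom_ext _ (NatTrans.ext (funext fun V => by
    show G.obj.map ((mulMap (l.unop ≫ k.unop)).app V.unop).op =
      G.obj.map ((mulMap k.unop).app V.unop).op ≫ G.obj.map ((mulMap l.unop).app V.unop).op
    rw [mulMap_comp, ← G.obj.map_comp]
    rfl)))

/-- The values of a fixed sheaf. -/
noncomputable abbrev hG (G : AbFp Y) : Over Y ⥤ (AbFp Y)ᵒᵖ := (hFun.flip.obj G).rightOp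

variable (f : X ⟶ Y)

/-- The augmented cosimplicial sheaf of a sheaf. -/
noncomputable abbrev M (G : AbFp Y) : SimplicialObject.Augmented (AbFp Y)ᵒᵖ :=
  ((SimplicialObject.Augmented.whiskering _ _).obj (hG G)).obj (IntDesc.N f)

/-- The term of degree `p`. -/
noncomputable abbrev Φ (p : ℕ) : AbFp Y ⥤ AbFp Y := hFun.obj (op ((IntDesc.N f).left.obj (op ⦋p⦌)))

theorem dd_natural {G G' : AbFp Y} (φ : G ⟶ G') (p : ℕ) :
    (Φ f p).map φ ≫ IntDesc.dd (M f G') p = IntDesc.dd (M f G) p ≫ (Φ f (p + 1)).map φ := by
  simp only [IntDesc.dd, AlgebraicTopology.AlternatingFaceMapComplex.obj_d_eq, unop_sum, unop_zsmul,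
    Preadditive.comp_sum, Preadditive.sum_comp, Preadditive.comp_zsmul, Preadditive.zsmul_comp]
  refine Finset.sum_congr rfl fun i _ => congrArg _ ?_
  exact ((hFun.map (((IntDesc.N f).left.map (SimplexCategory.δ i).op)).op).naturality φ)

/-- The complex of a sheaf, natural in the sheaf. -/
noncomputable def cxFun : AbFp Y ⥤ CochainComplex (AbFp Y) ℕ where
  obj G := IntDesc.cx (M f G)
  map {G G'} φ := CochainComplex.ofHom (fun p => (Φ f p).map φ) fun p => by
    exact ((congrArg ((Φ f p).map φ ≫ ·) (CochainComplex.of_d _ (IntDesc.dd (M f G')) p)).trans (dd_natural f φ p)).trans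
      (congrArg (· ≫ (Φ f (p + 1)).map φ) (CochainComplex.of_d _ (IntDesc.dd (M f G)) p).symm)
  map_id G := HomologicalComplex.hom_ext _ _ fun p => (Φ f p).map_id G
  map_comp φ ψ := HomologicalComplex.hom_ext _ _ fun p => (Φ f p).map_comp φ ψ

theorem cxFun_map_f {G G' : AbFp Y} (φ : G ⟶ G') (p : ℕ) : ((cxFun f).map φ).f p = (Φ f p).map φ := rfl

instance Φ_additive (p : ℕ) : (Φ f p).Additive := inferInstanceAs ((hObj _).Additive)

instance : (cxFun f).Additive where
  map_add {_ _ _ _} := HomologicalComplex.hom_ext _ _ fun p => (Φ f p).map_add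

/-- The product with a fixed first factor is base change to it. -/
noncomputable def mulIso (V : Over Y) :
    (mul.flip.obj V : Over Y ⥤ Over Y) ≅ Over.pullback V.hom ⋙ Over.map V.hom :=
  NatIso.ofComponents
    (fun T => Over.isoMk (pullbackSymmetry V.hom T.hom) (by
      show (pullbackSymmetry V.hom T.hom).hom ≫ pullback.snd T.hom V.hom ≫ V.hom = pullback.snd V.hom T.hom ≫ T.hom
      rw [pullbackSymmetry_hom_comp_snd_assoc, pullback.condition]))
    (fun {T T'} k => by
      refine Over.OverMorphism.ext (pullback.hom_ext ?_ ?_)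
      · simp [mul, mulMap, mulObj]
      · simp [mul, mulMap, mulObj])

/-- Evaluation at an object. -/
noncomputable abbrev ev (V : Over Y) : AbFp Y ⥤ AddCommGrpCat.{u + 1} :=
  sheafToPresheaf _ _ ⋙ (evaluation _ _).obj (op V)

/-- Over an object which lifts to `X` the cosimplicial sheaf has an extra degeneracy. -/
noncomputable def evDeg (G : AbFp Y) (V : Over Y) (ξ : V.left ⟶ X) (hξ : ξ ≫ f = V.hom) :
    (((SimplicialObject.Augmented.whiskering _ _).obj (ev V).op).obj (M f G)).ExtraDegeneracy :=
  SimplicialObject.Augmented.ExtraDegeneracy.ofIso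
    (((SimplicialObject.Augmented.whiskering _ _).mapIso
      (Functor.isoWhiskerRight (mulIso V).symm G.obj.rightOp)).app (IntDesc.N f))
    (((IntDesc.pbDeg f ξ hξ).map (Over.map V.hom)).map G.obj.rightOp)

variable [Flat f] [LocallyOfFinitePresentation f] [Surjective f]

/-- The base change of the covering to an object. -/
noncomputable abbrev cov (V : Over Y) : Over Y := Over.mk (pullback.fst V.hom f ≫ V.hom)

/-- It is a covering. -/
theorem cov_mem (V : Over Y) :
    Sieve.generate (Presieve.singleton (Over.homMk (pullback.fst V.hom f) : cov f V ⟶ V)) ∈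
      QuotSh.J Scheme.fppfPrecoverage Y V := by
  rw [GrothendieckTopology.mem_over_iff]
  have h : Presieve.singleton (pullback.fst V.hom f) ∈ Scheme.fppfPrecoverage V.left := by
    refine (Scheme.singleton_mem_precoverage_iff (P := @Flat ⊓ @LocallyOfFinitePresentation) _).2 ⟨?_, inferInstance, inferInstance⟩
    exact (pullback.fst V.hom f).surjective
  refine GrothendieckTopology.superset_covering _ ?_
    (Precoverage.generate_mem_toGrothendieck h)
  refine Sieve.generate_le_iff _ _ |>.2 ?_
  intro W g hg
  cases hg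
  exact (Sieve.overEquiv_iff _ _).2 ⟨cov f V, 𝟙 _, Over.homMk (pullback.fst V.hom f),
    Presieve.singleton_self _, Category.id_comp _⟩



omit [Flat f] [LocallyOfFinitePresentation f] [Surjective f] in
theorem contract_cov (G : AbFp Y) (V : Over Y) :
    Mono ((ev (cov f V)).map (IntDesc.aug (M f G))) ∧
      (ShortComplex.mk ((ev (cov f V)).map (IntDesc.aug (M f G))) ((ev (cov f V)).map (IntDesc.dd (M f G) 0))
        (by rw [← Functor.map_comp, IntDesc.aug_dd, Functor.map_zero])).Exact ∧
      ∀ p, (ShortComplex.mk ((ev (cov f V)).map (IntDesc.dd (M f G) p)) ((ev (cov f V)).map (IntDesc.dd (M f G) (p + 1)))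
        (by rw [← Functor.map_comp, IntDesc.dd_dd, Functor.map_zero])).Exact :=
  IntDesc.contract (ev (cov f V)) (M f G) (evDeg f G _ (pullback.snd V.hom f) pullback.condition.symm)

theorem exact_of_cov (S : ShortComplex (AbFp Y))
    (h : ∀ V : Over Y, ∀ x : S.X₂.obj.obj (op (cov f V)), S.g.hom.app (op (cov f V)) x = 0 →
      ∃ y, S.f.hom.app (op (cov f V)) y = x) : S.Exact := by
  refine BigSiteLib.FppfDesc.exact_of_locally_boundary fun V x hx => ?_
  refine GrothendieckTopology.superset_covering _ ?_ (cov_mem f V)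
  refine Sieve.generate_le_iff _ _ |>.2 ?_
  intro W g hg
  cases hg
  refine h V _ ?_
  exact (ConcreteCategory.congr_hom (S.g.hom.naturality (Over.homMk (pullback.fst V.hom f) : cov f V ⟶ V).op) x).trans
    ((congrArg (fun z => S.X₃.obj.map (Over.homMk (pullback.fst V.hom f) : cov f V ⟶ V).op z) hx).trans
      ((S.X₃.obj.map (Over.homMk (pullback.fst V.hom f) : cov f V ⟶ V).op).hom.map_zero))

theorem exact_M (G : AbFp Y) :
    Mono (IntDesc.aug (M f G)) ∧ (ShortComplex.mk (IntDesc.aug (M f G)) (IntDesc.dd (M f G) 0) (IntDesc.aug_dd _)).Exact ∧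
      ∀ p, (ShortComplex.mk (IntDesc.dd (M f G) p) (IntDesc.dd (M f G) (p + 1)) (IntDesc.dd_dd _ p)).Exact := by
  refine ⟨?_, ?_, fun p => ?_⟩
  · refine Preadditive.mono_of_cancel_zero _ fun {W} c hc => ?_
    refine ObjectProperty.hom_ext _ (NatTrans.ext (funext fun V => ?_))
    refine ConcreteCategory.hom_ext _ _ fun w => ?_
    have hinj := (AddCommGrpCat.mono_iff_injective _).1 (contract_cov f G V.unop).1
    have hsep := ((isSheaf_iff_isSheaf_of_type _ _).1
      (Presheaf.isSheaf_iff_isSheaf_forget _ _ (CategoryTheory.forget AddCommGrpCat.{u + 1}) |>.1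
        (M f G).right.unop.property) _ (cov_mem f V.unop)).isSeparatedFor
    refine Presieve.IsSeparatedFor.ext hsep fun W' g hg => ?_
    obtain ⟨W'', a, b, hb, rfl⟩ := hg
    cases hb
    show (M f G).right.unop.obj.map (a ≫ Over.homMk (pullback.fst V.unop.hom f)).op (c.hom.app V w) =
      (M f G).right.unop.obj.map (a ≫ Over.homMk (pullback.fst V.unop.hom f)).op ((0 : W ⟶ (M f G).right.unop).hom.app V w)
    rw [op_comp, Functor.map_comp, ConcreteCategory.comp_apply, ConcreteCategory.comp_apply]
    refine congrArg _ (hinj ?_)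
    refine Eq.trans ?_ (Eq.symm ?_) (b := 0)
    · refine (congrArg _ (ConcreteCategory.congr_hom
        (c.hom.naturality (Over.homMk (pullback.fst V.unop.hom f) : cov f V.unop ⟶ V.unop).op) w).symm).trans ?_
      exact (ConcreteCategory.comp_apply _ _ _).trans (ConcreteCategory.congr_hom (congrArg (fun z => z.hom.app (op (cov f V.unop))) hc) (W.obj.map (Over.homMk (pullback.fst V.unop.hom f) : cov f V.unop ⟶ V.unop).op w))
    · exact (congrArg _ (map_zero _)).trans (map_zero _)
  · exact exact_of_cov f _ fun V => (ShortComplex.ab_exact_iff _).1 (contract_cov f G V).2.1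
  · exact exact_of_cov f _ fun V => (ShortComplex.ab_exact_iff _).1 ((contract_cov f G V).2.2 p)

theorem quasiIso_cxι (G : AbFp Y) : QuasiIso (IntDesc.cxι (M f G)) := by
  obtain ⟨hm, h0, hs⟩ := exact_M f G
  exact IntDesc.quasiIso_cxι (M f G) hm h0 hs

omit [Flat f] [LocallyOfFinitePresentation f] [Surjective f] in
theorem cxι_natural {G G' : AbFp Y} (φ : G ⟶ G') :
    (CochainComplex.single₀ _).map ((hFun.obj (op (IntDesc.N f).right)).map φ) ≫ IntDesc.cxι (M f G') =
      IntDesc.cxι (M f G) ≫ (cxFun f).map φ := by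
  refine HomologicalComplex.from_single_hom_ext ?_
  rw [HomologicalComplex.comp_f, HomologicalComplex.comp_f]
  erw [CochainComplex.single₀_map_f_zero, CochainComplex.fromSingle₀Equiv_symm_apply_f_zero,
    CochainComplex.fromSingle₀Equiv_symm_apply_f_zero]
  rw [cxFun_map_f]
  have h : ∀ H : AbFp Y, IntDesc.aug (M f H) = (hFun.map (((IntDesc.N f).hom.app (op ⦋0⦌))).op).app H := fun H => by
    simp [M, hG, IntDesc.aug, SimplicialObject.Augmented.whiskering, SimplicialObject.Augmented.whiskeringObj]
  erw [h G, h G']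
  exact (hFun.map (((IntDesc.N f).hom.app (op ⦋0⦌))).op).naturality φ

end Groth.Agent.EtEff48.FppfCech
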