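import Groth.Agent.EtEff48.Fppf.HCx

/-!
# The descent spectral sequence of a flat covering
-/

set_option autoImplicit false
set_option linter.style.haveILetI false
set_option backward.isDefEq.respectTransparency false
set_option backward.isDefEq.respectTransparency.types false

universe v u

open CategoryTheory CategoryTheory.Limits CategoryTheory.Abelian

namespace Groth.Agent.EtEff48.FppfCech

section General

variable {A : Type u} [Category.{v} A] [Abelian A] [HasProducts.{0} A] [HasCoproducts.{0} A]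

/-- A functorial resolution applied to a resolution gives a double complex resolving the object. -/
theorem exists_qis_total (R : A ⥤ CochainComplex A ℤ) [R.PreservesZeroMorphisms]
    (hR : ∀ (X : A) (q : ℤ), q < 0 → IsZero ((R.obj X).X q))
    (η : CochainComplex.singleFunctor A 0 ⟶ R) (hη : ∀ X, QuasiIso (η.app X))
    (C' : CochainComplex A ℤ) (hC' : ∀ p : ℤ, p < 0 → IsZero (C'.X p))
    (F : A) (ι' : (CochainComplex.singleFunctor A 0).obj F ⟶ C') [QuasiIso ι'] :
    ∃ ιT : (CochainComplex.singleFunctor A 0).obj F ⟶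
      HomologicalComplex₂.total (HomologicalComplex₂.flip ((R.mapHomologicalComplex (ComplexShape.up ℤ)).obj C')) (ComplexShape.up ℤ), QuasiIso ιT := by
  let G : A ⥤ CochainComplex A ℤ := HomologicalComplex.single A (ComplexShape.up ℤ) 0
  let SF : HomologicalComplex₂ A (ComplexShape.up ℤ) (ComplexShape.up ℤ) :=
    (G.mapHomologicalComplex _).obj (G.obj F)
  let K₀ : HomologicalComplex₂ A (ComplexShape.up ℤ) (ComplexShape.up ℤ) := (G.mapHomologicalComplex _).obj C'
  let K : HomologicalComplex₂ A (ComplexShape.up ℤ) (ComplexShape.up ℤ) := (R.mapHomologicalComplex _).obj C'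
  let φ : K₀ ⟶ K := (NatTrans.mapHomologicalComplex η _).app C'
  have hK : ∀ p q : ℤ, p < 0 ∨ q < 0 → IsZero ((K.X p).X q) := fun p q h => by
    rcases h with h | h
    · exact (HomologicalComplex.eval A (ComplexShape.up ℤ) q).map_isZero (R.map_isZero (hC' p h))
    · exact hR _ _ h
  have hK₀ : ∀ p q : ℤ, p < 0 ∨ q < 0 → IsZero ((K₀.X p).X q) := fun p q h => by
    rcases h with h | h
    · exact (HomologicalComplex.eval A (ComplexShape.up ℤ) q).map_isZero (G.map_isZero (hC' p h))
    · exact HomologicalComplex.isZero_single_obj_X _ _ _ _ (by omega)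
  have hSF : ∀ p q : ℤ, p < 0 ∨ q < 0 → IsZero ((SF.X p).X q) := fun p q h => by
    rcases h with h | h
    · exact (HomologicalComplex.eval A (ComplexShape.up ℤ) q).map_isZero
        (G.map_isZero (HomologicalComplex.isZero_single_obj_X _ _ _ _ (by omega)))
    · exact HomologicalComplex.isZero_single_obj_X _ _ _ _ (by omega)
  let ψ : SF ⟶ K₀ := (G.mapHomologicalComplex _).map ι'
  haveI : QuasiIso ψ := by
    haveI : (HomologicalComplex.single A (ComplexShape.up ℤ) 0).PreservesHomology := inferInstance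
    exact HomologicalComplex.quasiIso_map_of_preservesHomology ι' _
  haveI : QuasiIso (HomologicalComplex₂.total.map ψ (ComplexShape.up ℤ)) :=
    Der55.quasiIso_total_map ψ 0 0 hSF hK₀
  let φ' := (HomologicalComplex₂.flipFunctor A (ComplexShape.up ℤ) (ComplexShape.up ℤ)).map φ
  haveI : QuasiIso φ' := ResSS.quasiIso_eval φ fun p => hη (C'.X p)
  haveI : QuasiIso (HomologicalComplex₂.total.map φ' (ComplexShape.up ℤ)) :=
    Der55.quasiIso_total_map φ' 0 0 (fun p q h => hK₀ q p h.symm) (fun p q h => hK q p h.symm)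
  have hpt : ∀ p q : ℤ, ¬ (p = 0 ∧ q = 0) → IsZero ((SF.X p).X q) := fun p q h => by
    by_cases hp : p = 0
    · exact HomologicalComplex.isZero_single_obj_X _ _ _ _ fun hq => h ⟨hp, hq⟩
    · exact (HomologicalComplex.eval A (ComplexShape.up ℤ) q).map_isZero
        (G.map_isZero (HomologicalComplex.isZero_single_obj_X _ _ _ _ hp))
  let e00 : (SF.X 0).X 0 ≅ F :=
    HomologicalComplex.singleObjXSelf (ComplexShape.up ℤ) 0 _ ≪≫ HomologicalComplex.singleObjXSelf (ComplexShape.up ℤ) 0 F
  let ι₀ : G.obj F ⟶ SF.total (ComplexShape.up ℤ) :=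
    HomologicalComplex.mkHomFromSingle (e00.inv ≫ SF.ιTotal (ComplexShape.up ℤ) 0 0 0 rfl) fun j (hj : (0 : ℤ) + 1 = j) => by
      subst hj
      refine Eq.trans (Category.assoc _ _ _) (Eq.trans (congrArg (e00.inv ≫ ·) ?_) comp_zero)
      refine Der55.eq_zero_of_totπ SF 0 0 hSF _ fun p q hpq => (hpt p q (by omega)).eq_of_tgt _ _
  haveI : IsIso ι₀ := by
    haveI : ∀ n, IsIso (ι₀.f n) := fun n => by
      by_cases hn : n = 0
      · subst hn
        rw [HomologicalComplex.mkHomFromSingle_f]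
        haveI : IsIso (SF.ιTotal (ComplexShape.up ℤ) 0 0 0 rfl) :=
          ⟨Der55.totπ SF 0 0 0 rfl, Der55.ι_totπ_self SF 0 0 0 rfl, by
            rw [DblSS.id_total SF hSF 0, Finset.Icc_self, Finset.sum_singleton]
            rfl⟩
        infer_instance
      · refine IsZero.isIso ?_ ?_ _
        · exact HomologicalComplex.isZero_single_obj_X _ _ _ _ hn
        · rw [IsZero.iff_id_eq_zero, DblSS.id_total SF hSF n]
          exact Finset.sum_eq_zero fun p hp => by
            rw [(hpt p (n - p) (by omega)).eq_of_tgt (Der55.totπ SF p (n - p) n (by omega)) 0, zero_comp]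
    exact HomologicalComplex.Hom.isIso_of_components ι₀
  refine ⟨ι₀ ≫ HomologicalComplex₂.total.map ψ (ComplexShape.up ℤ) ≫ (K₀.totalFlipIso (ComplexShape.up ℤ)).inv ≫
      HomologicalComplex₂.total.map φ' (ComplexShape.up ℤ), ?_⟩
  exact inferInstanceAs (QuasiIso (_ ≫ _ ≫ _ ≫ _))

/-- A functorial resolution with terms computing `Ext` gives a spectral sequence. -/
theorem exists_ss_gen [HasExt.{v} A] [EnoughInjectives A] (R : A ⥤ CochainComplex A ℤ) [R.Additive]
    (hR : ∀ (X : A) (q : ℤ), q < 0 → IsZero ((R.obj X).X q))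
    (η : CochainComplex.singleFunctor A 0 ⟶ R) (hη : ∀ X, QuasiIso (η.app X))
    (hInj : ∀ (X : A) [Injective X] (p : ℤ), Injective ((R.obj X).X p))
    (Φ : ℕ → A ⥤ A) [∀ p, (Φ p).Additive] (eΦ : ∀ p : ℕ, R ⋙ HomologicalComplex.eval A (ComplexShape.up ℤ) (p : ℤ) ≅ Φ p)
    (B : ℕ → Type u) [∀ p, Category.{v} (B p)] [∀ p, Abelian (B p)] [∀ p, EnoughInjectives (B p)]
    [∀ p, HasExt.{v} (B p)] (rs : ∀ p, A ⥤ B p) [∀ p, (rs p).Additive] [∀ p, PreservesFiniteLimits (rs p)]
    [∀ p, PreservesFiniteColimits (rs p)] [∀ p, (rs p).PreservesInjectiveObjects] (Z : A) (Z' : ∀ p, B p)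
    (w : ∀ p, Φ p ⋙ preadditiveCoyoneda.obj (Opposite.op Z) ≅ rs p ⋙ preadditiveCoyoneda.obj (Opposite.op (Z' p)))
    (F : A) (E₁ : ℤ → ℤ → AddCommGrpCat.{v})
    (hE₁ : ∀ p q : ℕ, Nonempty (AddCommGrpCat.of (Ext (Z' p) ((rs p).obj F) q) ≅ E₁ p q))
    (hE₁' : ∀ p q : ℤ, p < 0 ∨ q < 0 → IsZero (E₁ p q))
    (H : ℤ → AddCommGrpCat.{v}) (hH : ∀ n : ℕ, Nonempty (AddCommGrpCat.of (Ext Z F n) ≅ H n))
    (hH' : ∀ n : ℤ, n < 0 → IsZero (H n)) :
    ∃ (E : CohomologicalSpectralSequence AddCommGrpCat.{v} 1) (a : SpSeq.Abutment E H),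
      (∀ n, a.IsFinite n) ∧ SpSeq.IsBounded E ∧
      ∀ p q : ℤ, Nonempty ((E.page 1 le_rfl).X (p, q) ≅ E₁ p q) := by
  let I := (injectiveResolution F).cochainComplex
  let K : HomologicalComplex₂ A (ComplexShape.up ℤ) (ComplexShape.up ℤ) :=
    HomologicalComplex₂.flip ((R.mapHomologicalComplex (ComplexShape.up ℤ)).obj I)
  have hI : ∀ n : ℤ, n < 0 → IsZero (I.X n) := fun n hn => CochainComplex.isZero_of_isStrictlyGE _ 0 n hn
  have hK : ∀ p q : ℤ, p < 0 ∨ q < 0 → IsZero ((K.X p).X q) := fun p q h => by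
    show IsZero ((R.obj (I.X q)).X p)
    rcases h with h | h
    · exact hR _ p h
    · exact (HomologicalComplex.eval A (ComplexShape.up ℤ) p).map_isZero (R.map_isZero (hI q h))
  obtain ⟨ιT, hιT⟩ := exists_qis_total R hR η hη I hI F (injectiveResolution F).ι'
  haveI := hιT
  refine DblSS.exists_spectralSequence K hK (fun p q => hInj (I.X q) p) Z F ιT E₁ (fun p q => ?_) H hH hH'
  by_cases h : p < 0 ∨ q < 0
  · refine ⟨IsZero.iso ?_ (hE₁' p q h)⟩
    refine (HomologicalComplex.exactAt_iff_isZero_homology _ _).1 (HomologicalComplex.ExactAt.of_isZero ?_)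
    exact (preadditiveCoyoneda.obj (Opposite.op Z)).map_isZero (hK p q h)
  · simp only [not_or, not_lt] at h
    obtain ⟨p, rfl⟩ := Int.eq_ofNat_of_zero_le h.1
    obtain ⟨q, rfl⟩ := Int.eq_ofNat_of_zero_le h.2
    let c := preadditiveCoyoneda.obj (Opposite.op (Z' p))
    let W : A ⥤ AddCommGrpCat.{v} := rs p ⋙ c
    let W' : A ⥤ AddCommGrpCat.{v} :=
      (R ⋙ HomologicalComplex.eval A (ComplexShape.up ℤ) (p : ℤ)) ⋙ preadditiveCoyoneda.obj (Opposite.op Z)
    let e : W' ≅ W := Functor.isoWhiskerRight (eΦ p) _ ≪≫ w p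
    let e0 : ((preadditiveCoyoneda.obj (Opposite.op Z)).mapHomologicalComplex _).obj (K.X (p : ℤ)) ≅
        (W'.mapHomologicalComplex _).obj I :=
      HomologicalComplex.Hom.isoOfComponents (fun _ => Iso.refl _) fun i j _ => by
        exact (Category.id_comp _).trans (Category.comp_id _).symm
    obtain ⟨e1⟩ := TopDesc98.nonempty_rightDerived_iso_of_resolution W F I (injectiveResolution F).ι'
      (fun n => TriCat.isRightAcyclic_of_injective (F := W) _) q
    obtain ⟨e2⟩ := hE₁ p q
    exact ⟨HomologicalComplex.homologyMapIso (e0 ≪≫ (NatIso.mapHomologicalComplex e _).app I) (q : ℤ) ≪≫ e1 ≪≫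
      (SiteBase.rightDerivedPrecompIso (rs p) c q).app F ≪≫ Groth.Agent.SpObjSS.rightDerivedHomFromIso (Z' p) q _ ≪≫
        e2⟩

end General

end Groth.Agent.EtEff48.FppfCech

namespace Groth.Agent.EtEff48.FppfCech

open AlgebraicGeometry Opposite Simplicial
open BigSiteLib.FppfDesc (AbFp)

variable {X Y : Scheme.{u}}

/-- The product with the base. -/
noncomputable def mulTopIso (V : Over Y) : (mulObj (Over.mk (𝟙 Y))).obj V ≅ V :=
  Over.isoMk (asIso (pullback.fst V.hom (𝟙 Y))) (by
    show pullback.fst V.hom (𝟙 Y) ≫ V.hom = pullback.snd V.hom (𝟙 Y) ≫ 𝟙 Y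
    exact pullback.condition)

/-- The direct image of the inverse image along the identity. -/
noncomputable def rightIso : 𝟭 (AbFp Y) ≅ hObj (Over.mk (𝟙 Y)) :=
  NatIso.ofComponents
    (fun G => (fullyFaithfulSheafToPresheaf _ _).preimageIso
      (NatIso.ofComponents (fun V => G.obj.mapIso (mulTopIso V.unop).op) fun {V V'} a => by
        show G.obj.map a ≫ G.obj.map (mulTopIso V'.unop).hom.op =
          G.obj.map (mulTopIso V.unop).hom.op ≫ G.obj.map ((mulObj (Over.mk (𝟙 Y))).map a.unop).op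
        rw [← G.obj.map_comp, ← G.obj.map_comp]
        congr 1
        refine Quiver.Hom.unop_inj (Over.OverMorphism.ext ?_)
        simp [mulTopIso, mulObj]))
    fun {G G'} φ => ObjectProperty.hom_ext _ (NatTrans.ext (funext fun V =>
      (φ.hom.naturality (mulTopIso V.unop).hom.op).symm))

variable (f : X ⟶ Y)

/-- The complex of a sheaf, in integer degrees. -/
noncomputable abbrev R : AbFp Y ⥤ CochainComplex (AbFp Y) ℤ :=
  cxFun f ⋙ ComplexShape.embeddingUpNat.extendFunctor _

/-- The augmentation on `ℕ`. -/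
noncomputable def augR₀ (G : AbFp Y) : (CochainComplex.single₀ _).obj G ⟶ (cxFun f).obj G :=
  (CochainComplex.single₀ _).map (rightIso.hom.app G) ≫ IntDesc.cxι (M f G)

theorem augR₀_natural {G G' : AbFp Y} (φ : G ⟶ G') :
    (CochainComplex.single₀ _).map φ ≫ augR₀ f G' = augR₀ f G ≫ (cxFun f).map φ := by
  have h : (CochainComplex.single₀ _).map φ ≫ (CochainComplex.single₀ _).map (rightIso.hom.app G') =
      (CochainComplex.single₀ _).map (rightIso.hom.app G) ≫
        (CochainComplex.single₀ _).map ((hFun.obj (op (IntDesc.N f).right)).map φ) := by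
    rw [← Functor.map_comp, ← Functor.map_comp]
    exact congrArg _ (rightIso.hom.naturality φ)
  simp only [augR₀]
  rw [← Category.assoc, h, Category.assoc, Category.assoc]
  exact congrArg (_ ≫ ·) (cxι_natural f φ)

/-- The augmentation. -/
noncomputable def augR : CochainComplex.singleFunctor (AbFp Y) 0 ⟶ R f where
  app G := (HomologicalComplex.extendSingleIso ComplexShape.embeddingUpNat G 0 0 rfl).inv ≫
    HomologicalComplex.extendMap (augR₀ f G) ComplexShape.embeddingUpNat
  naturality G G' φ := by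
    refine Eq.trans ?_ (((congrArg (_ ≫ ·) ((HomologicalComplex.extendMap_comp _ _ _).symm.trans
      ((congrArg (HomologicalComplex.extendMap · ComplexShape.embeddingUpNat) (augR₀_natural f φ))))).trans
        (congrArg (_ ≫ ·) (HomologicalComplex.extendMap_comp _ _ _))).trans (Category.assoc _ _ _).symm)
    refine (Category.assoc _ _ _).symm.trans (Eq.trans (congrArg (· ≫ _) ?_) (Category.assoc _ _ _))
    refine HomologicalComplex.from_single_hom_ext ?_
    simp [HomologicalComplex.extendSingleIso, HomologicalComplex.extendMap_f (i := 0) (i' := (0 : ℤ))]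
    exact HomologicalComplex.single_map_f_self_assoc _ _ _ _ |>.trans (by simp)

theorem quasiIso_augR [Flat f] [LocallyOfFinitePresentation f] [Surjective f] (G : AbFp Y) :
    QuasiIso ((augR f).app G) := by
  haveI := quasiIso_cxι f G
  haveI : QuasiIso (augR₀ f G) := inferInstanceAs (QuasiIso (_ ≫ _))
  haveI : QuasiIso (HomologicalComplex.extendMap (augR₀ f G) ComplexShape.embeddingUpNat) :=
    (HomologicalComplex.quasiIso_extendMap_iff _ _).2 inferInstance
  exact inferInstanceAs (QuasiIso (_ ≫ _))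

theorem isZero_R (G : AbFp Y) (p : ℤ) (hp : p < 0) : IsZero (((R f).obj G).X p) :=
  HomologicalComplex.isZero_extend_X _ _ _ fun i h => by
    have : (i : ℤ) = p := h
    omega

instance injective_hObj (T : Over Y) (I : AbFp Y) [Injective I] : Injective ((hObj T).obj I) := by
  haveI : Injective ((BigSite.pullBig Scheme.fppfPrecoverage T.hom AddCommGrpCat.{u + 1}).obj I) :=
    Functor.PreservesInjectiveObjects.injective_obj inferInstance
  haveI : PreservesFiniteLimits (BigSite.pullBig Scheme.fppfPrecoverage T.hom AddCommGrpCat.{u + 1}) := inferInstance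
  exact Injective.injective_of_adjoint (BigSite.bigAdj Scheme.fppfPrecoverage T.hom AddCommGrpCat.{u + 1}) _

/-- The constant sheaf. -/
noncomputable abbrev ZZ (T : Scheme.{u}) : AbFp T :=
  (constantSheaf _ AddCommGrpCat.{u + 1}).obj (AddCommGrpCat.of (ULift.{u + 1} ℤ))

/-- The morphisms out of the constant sheaf are the sections over the scheme. -/
noncomputable def secIso (T : Scheme.{u}) :
    preadditiveCoyoneda.obj (op (ZZ T)) ≅ ev (Over.mk (𝟙 T)) :=
  NatIso.ofComponents
    (fun G => (((constantSheafAdj _ AddCommGrpCat.{u + 1} (Over.mkIdTerminal (X := T))).homAddEquiv _ G).trans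
      (AddCommGrpCat.uliftZMultiplesAddEquiv _)).toAddCommGrpIso)
    fun {G G'} φ => ConcreteCategory.hom_ext _ _ fun x => rfl

/-- The global sections of a direct image. -/
noncomputable def topIso (T : Over Y) :
    (Over.pullback T.hom).obj (Over.mk (𝟙 Y)) ≅ Over.mk (𝟙 T.left) :=
  Over.isoMk (asIso (pullback.snd (𝟙 Y) T.hom)) (Category.comp_id _)

/-- The sections of a direct image over the base. -/
noncomputable def topEvIso (T : Over Y) :
    hObj T ⋙ ev (Over.mk (𝟙 Y)) ≅
      BigSite.pullBig Scheme.fppfPrecoverage T.hom AddCommGrpCat.{u + 1} ⋙ ev (Over.mk (𝟙 T.left)) :=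
  NatIso.ofComponents
    (fun G => ((BigSite.pullBig Scheme.fppfPrecoverage T.hom AddCommGrpCat.{u + 1}).obj G).obj.mapIso (topIso T).symm.op)
    fun {G G'} φ => (((BigSite.pullBig Scheme.fppfPrecoverage T.hom AddCommGrpCat.{u + 1}).map φ).hom.naturality
      (topIso T).symm.hom.op).symm

/-- Morphisms into the direct images. -/
noncomputable def homIso (T : Over Y) :
    hObj T ⋙ preadditiveCoyoneda.obj (op (ZZ Y)) ≅
      BigSite.pullBig Scheme.fppfPrecoverage T.hom AddCommGrpCat.{u + 1} ⋙ preadditiveCoyoneda.obj (op (ZZ T.left)) :=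
  Functor.isoWhiskerLeft (hObj T) (secIso Y) ≪≫ topEvIso T ≪≫
    Functor.isoWhiskerLeft _ (secIso T.left).symm

variable (F : EtCoh.Ab Y)

/-- Cohomology of a fibre power. -/
theorem nonempty_ext_pull {T : Scheme.{u}} (t : T ⟶ Y) (q : ℕ) :
    Nonempty (Ext (ZZ T) ((BigSite.pullBig Scheme.fppfPrecoverage t AddCommGrpCat.{u + 1}).obj (BigSiteLib.piFppf F)) q ≃+
      EtCoh.H T ((EtCoh.pull t).obj F) q) := by
  obtain ⟨e⟩ := BigSiteLib.FppfDesc.H_iso T ((EtCoh.pull t).obj F) q
  let i := BigSiteLib.aPullIso ((EtCoh.pull t).obj F) ≪≫ BigSiteLib.FppfDesc.piFppfPullIso t F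
  exact ⟨(((Abelian.extFunctorObj (ZZ T) q).mapIso i).addCommGroupIsoToAddEquiv.symm).trans e.symm⟩

theorem nonempty_ext_base (q : ℕ) :
    Nonempty (Ext (ZZ Y) (BigSiteLib.piFppf F) q ≃+ EtCoh.H Y F q) := by
  obtain ⟨e⟩ := BigSiteLib.FppfDesc.H_iso Y F q
  exact ⟨(((Abelian.extFunctorObj (ZZ Y) q).mapIso (BigSiteLib.aPullIso F)).addCommGroupIsoToAddEquiv.symm).trans e.symm⟩

theorem injective_R (G : AbFp Y) [Injective G] (p : ℤ) : Injective (((R f).obj G).X p) := by
  rcases lt_or_ge p 0 with hp | hp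
  · exact (isZero_R f _ p hp).injective
  · obtain ⟨m, rfl⟩ := Int.eq_ofNat_of_zero_le hp
    exact Injective.of_iso (HomologicalComplex.extendXIso ((cxFun f).obj _) ComplexShape.embeddingUpNat (i := m) rfl).symm
      (injective_hObj ((IntDesc.N f).left.obj (op ⦋m⦌)) G)

/-- The evaluation of the complexes in degree `p`. -/
noncomputable def evalIso (p : ℕ) : R f ⋙ HomologicalComplex.eval (AbFp Y) (ComplexShape.up ℤ) (p : ℤ) ≅ Φ f p :=
  NatIso.ofComponents (fun G => HomologicalComplex.extendXIso ((cxFun f).obj G) ComplexShape.embeddingUpNat rfl)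
    fun {G G'} φ => by
      simp [HomologicalComplex.extendMap_f ((cxFun f).map φ) ComplexShape.embeddingUpNat (i := p) (i' := (p : ℤ)) rfl, cxFun_map_f]

/-- The base of the `p`-th fibre power. -/
noncomputable abbrev Tp (p : ℕ) : Over Y := (IntDesc.N f).left.obj (op ⦋p⦌)

/-- The descent spectral sequence of a flat covering. -/
theorem exists_ss [Flat f] [LocallyOfFinitePresentation f] [Surjective f] :
    ∃ (E : CohomologicalSpectralSequence AddCommGrpCat.{u + 1} 1)
      (a : SpSeq.Abutment E (fun n : ℤ =>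
        if 0 ≤ n then AddCommGrpCat.of (EtCoh.H Y F n.toNat) else AddCommGrpCat.of PUnit.{u + 2})),
      (∀ n, a.IsFinite n) ∧ SpSeq.IsBounded E ∧
      ∀ p q : ℤ, Nonempty ((E.page 1 le_rfl).X (p, q) ≅
        (if 0 ≤ p ∧ 0 ≤ q then
          AddCommGrpCat.of (EtCoh.H (widePullback Y (fun _ : Fin (p.toNat + 1) => X) (fun _ => f))
            ((EtCoh.pull (WidePullback.base (fun _ : Fin (p.toNat + 1) => f) :
              widePullback Y (fun _ : Fin (p.toNat + 1) => X) (fun _ => f) ⟶ Y)).obj F) q.toNat)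
         else AddCommGrpCat.of PUnit.{u + 2})) := by
  refine exists_ss_gen (R f) (isZero_R f) (augR f) (quasiIso_augR f) (fun G _ p => injective_R f G p) (Φ f) (evalIso f)
    (fun p => AbFp (Tp f p).left) (fun p => BigSite.pullBig Scheme.fppfPrecoverage (Tp f p).hom AddCommGrpCat.{u + 1})
    (ZZ Y) (fun p => ZZ (Tp f p).left) (fun p => homIso (Tp f p)) (BigSiteLib.piFppf F) _ (fun p q => ?_)
    (fun p q h => ?_) _ (fun n => ?_) fun n hn => ?_
  · obtain ⟨e⟩ := nonempty_ext_pull F (Tp f p).hom q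
    refine ⟨(AddEquiv.toAddCommGrpIso
      (X := AddCommGrpCat.of (Ext (ZZ (Tp f p).left) ((BigSite.pullBig Scheme.fppfPrecoverage (Tp f p).hom AddCommGrpCat.{u + 1}).obj (BigSiteLib.piFppf F)) q))
      (Y := AddCommGrpCat.of (EtCoh.H (widePullback Y (fun _ : Fin (p + 1) => X) (fun _ => f))
        ((EtCoh.pull (WidePullback.base (fun _ : Fin (p + 1) => f))).obj F) q)) e) ≪≫ eqToIso ?_⟩
    rw [if_pos ⟨Int.natCast_nonneg p, Int.natCast_nonneg q⟩]
    rfl
  · rw [if_neg (by omega)]
    exact AddCommGrpCat.isZero_of_subsingleton _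
  · obtain ⟨e⟩ := nonempty_ext_base F n
    exact ⟨(AddEquiv.toAddCommGrpIso (X := AddCommGrpCat.of (Ext (ZZ Y) (BigSiteLib.piFppf F) n))
      (Y := AddCommGrpCat.of (EtCoh.H Y F n)) e) ≪≫ eqToIso (by simp)⟩
  · rw [if_neg (not_le.2 hn)]
    exact AddCommGrpCat.isZero_of_subsingleton _

end Groth.Agent.EtEff48.FppfCech
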